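import Groth.Agent.Lib.DQC.Pull
import Groth.Agent.Lib.GorFib27.Apps
import Groth.Agent.Lib.Dlz27.GlueApps
import Groth.Prelude.Def_DualSch
import Mathlib.AlgebraicGeometry.Morphisms.Smooth

/-!
# Being dualizing on a scheme is tested on one affine open cover
-/

set_option autoImplicit false
set_option linter.style.haveILetI false
set_option backward.isDefEq.respectTransparency false
set_option backward.isDefEq.respectTransparency.types false

universe u

open CategoryTheory CategoryTheory.Limits AlgebraicGeometry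

attribute [local instance] HasDerivedCategory.standard

noncomputable section

namespace Groth.Agent.DlzSch27

variable {X : Scheme.{u}}

/-- An affine model of `K` over a chart. -/
def Mdl (K : DCoh.D X) {R : CommRingCat.{u}} (j : Spec R ⟶ X) [IsOpenImmersion j] (M : Dual.D R) : Prop :=
  Nonempty ((DPerf.resD j).obj K ≅ (DPerf.tildeDD R).obj M)

theorem nonempty_iso_of_tilde {R : CommRingCat.{u}} {M N : Dual.D R}
    (e : (DPerf.tildeDD R).obj M ≅ (DPerf.tildeDD R).obj N) : Nonempty (M ≅ N) := by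
  obtain ⟨f, hf⟩ := (DQC.bijective_map M N).2 e.hom
  obtain ⟨g, hg⟩ := (DQC.bijective_map N M).2 e.inv
  simp only at hf hg
  refine ⟨⟨f, g, (DQC.bijective_map M M).1 ?_, (DQC.bijective_map N N).1 ?_⟩⟩
  · show (DPerf.tildeDD R).map (f ≫ g) = (DPerf.tildeDD R).map (𝟙 M)
    rw [Functor.map_comp, hf, hg, e.hom_inv_id, CategoryTheory.Functor.map_id]
  · show (DPerf.tildeDD R).map (g ≫ f) = (DPerf.tildeDD R).map (𝟙 N)
    rw [Functor.map_comp, hf, hg, e.inv_hom_id, CategoryTheory.Functor.map_id]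

/-- Models are unique. -/
theorem Mdl.unique {K : DCoh.D X} {R : CommRingCat.{u}} {j : Spec R ⟶ X} [IsOpenImmersion j] {M N : Dual.D R}
    (hM : Mdl K j M) (hN : Mdl K j N) : Nonempty (M ≅ N) := by
  obtain ⟨a⟩ := hM
  obtain ⟨b⟩ := hN
  exact nonempty_iso_of_tilde (a.symm ≪≫ b)

/-- Models restrict. -/
theorem Mdl.res {K : DCoh.D X} {R S : CommRingCat.{u}} {j : Spec R ⟶ X} [IsOpenImmersion j] {M : Dual.D R}
    (hM : Mdl K j M) (φ : R ⟶ S) [DRing.HasLBaseChange φ.hom] [IsOpenImmersion (Spec.map φ)] {k : Spec S ⟶ X}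
    [IsOpenImmersion k] (w : Spec.map φ ≫ j = k) : Mdl K k ((DRing.LBaseChange φ.hom).obj M) := by
  subst w
  obtain ⟨a⟩ := hM
  haveI := KFlat.Sch.hasLpull (Spec.map φ)
  obtain ⟨b⟩ := DPerf.nonempty_lpull_iso_resD (Spec.map φ) ((DPerf.tildeDD R).obj M)
  exact ⟨((DPerf.resDComp j (Spec.map φ)).app K).symm ≪≫ (DPerf.resD (Spec.map φ)).mapIso a ≪≫ b.symm ≪≫
    ((KFlat.Sch.lpullTildeIso φ).app M).symm⟩

theorem isNoetherianRing_of_chart [IsLocallyNoetherian X] {R : CommRingCat.{u}} (j : Spec R ⟶ X) [IsOpenImmersion j] :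
    IsNoetherianRing R := by
  haveI : IsLocallyNoetherian (Spec R) := isLocallyNoetherian_of_isOpenImmersion j
  exact (isLocallyNoetherian_Spec).1 ‹_›

/-- An open immersion of affine schemes preserves dualizing complexes. -/
theorem isDualizing_of_openImmersion {R S : CommRingCat.{u}} (φ : R ⟶ S) [IsOpenImmersion (Spec.map φ)]
    [IsNoetherianRing R] [DRing.HasLBaseChange φ.hom] {M : Dual.D R} (hM : Dual.IsDualizing R M) :
    Dual.IsDualizing S ((DRing.LBaseChange φ.hom).obj M) := by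
  have hs : φ.hom.Smooth := (HasRingHomProperty.Spec_iff (P := @Smooth)).1 inferInstance
  letI := φ.hom.toAlgebra
  haveI : Algebra.Smooth R S := hs
  exact GorFib27.isDualizing_LBaseChange_smooth hM

theorem isQCohD_of_models {K : DCoh.D X} (h : ∀ x : X, ∃ (R : CommRingCat.{u}) (j : Spec R ⟶ X)
    (_ : IsOpenImmersion j), x ∈ Set.range j ∧ ∃ M, Mdl K j M) : DCoh.IsQCohD K :=
  DQC.isQCohD_of_cover fun x => by
    obtain ⟨R, j, hj, hx, M, ⟨a⟩⟩ := h x
    exact ⟨Spec R, j, hj, hx, DQC.isQCohD_of_iso a.symm (DQC.isQCohD_obj M)⟩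

/-- Dualizing models on a cover give dualizing models everywhere. -/
theorem exists_model_of_cover [IsLocallyNoetherian X] {K : DCoh.D X}
    (h : ∀ x : X, ∃ (R : CommRingCat.{u}) (j : Spec R ⟶ X) (_ : IsOpenImmersion j),
      x ∈ Set.range j ∧ ∃ M, Dual.IsDualizing R M ∧ Mdl K j M)
    {T : CommRingCat.{u}} (k : Spec T ⟶ X) [IsOpenImmersion k] : ∃ N, Dual.IsDualizing T N ∧ Mdl K k N := by
  classical
  haveI := isNoetherianRing_of_chart k
  obtain ⟨N, ⟨eN⟩⟩ := DQC.exists_iso_of_isQCohD ((DPerf.resD k).obj K) (DQC.isQCohD_resD k (isQCohD_of_models fun x => by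
    obtain ⟨R, j, hj, hx, M, -, hM⟩ := h x
    exact ⟨R, j, hj, hx, M, hM⟩))
  have hN : Mdl K k N := ⟨eN.symm⟩
  refine ⟨N, ?_, hN⟩
  have key : ∀ t : PrimeSpectrum T, ∃ f : T, f ∉ t.asIdeal ∧ Dual.IsDualizing (Localization.Away f)
      (haveI := DQC.hasLBaseChange (algebraMap T (Localization.Away f));
        (DRing.LBaseChange (algebraMap T (Localization.Away f))).obj N) := by
    intro t
    obtain ⟨R, j, hj, hx, M, hMd, hM⟩ := h (k t)
    haveI := isNoetherianRing_of_chart j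
    let U : Set (PrimeSpectrum T) := k ⁻¹' Set.range j
    have hU : IsOpen U := j.isOpenEmbedding.isOpen_range.preimage k.continuous
    obtain ⟨_, ⟨f, rfl⟩, htf, hfU⟩ :=
      PrimeSpectrum.isTopologicalBasis_basic_opens.exists_subset_of_mem_open (show t ∈ U from hx) hU
    refine ⟨f, htf, ?_⟩
    let S := CommRingCat.of (Localization.Away f)
    let ψ : T ⟶ S := CommRingCat.ofHom (algebraMap T (Localization.Away f))
    haveI : IsOpenImmersion (Spec.map ψ) := IsOpenImmersion.of_isLocalization f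
    have hr : Set.range (Spec.map ψ ≫ k) ⊆ Set.range j := by
      rintro _ ⟨s, rfl⟩
      refine hfU ?_
      exact (PrimeSpectrum.localization_away_comap_range (Localization.Away f) f).subset ⟨s, rfl⟩
    let l := IsOpenImmersion.lift j (Spec.map ψ ≫ k) hr
    obtain ⟨φ, hφ⟩ := Spec.map_surjective l
    have hl : Spec.map φ ≫ j = Spec.map ψ ≫ k := by rw [hφ]; exact IsOpenImmersion.lift_fac _ _ _
    haveI : IsOpenImmersion (Spec.map φ ≫ j) := by rw [hl]; infer_instance
    haveI : IsOpenImmersion (Spec.map φ) := IsOpenImmersion.of_comp (Spec.map φ) j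
    haveI := DQC.hasLBaseChange φ.hom
    haveI := DQC.hasLBaseChange ψ.hom
    obtain ⟨e⟩ := (hM.res φ hl).unique (hN.res ψ rfl)
    exact Dlz27.isDualizing_of_iso e (isDualizing_of_openImmersion φ hMd)
  choose f hf hf' using key
  have hspan : Ideal.span (Set.range f) = ⊤ := by
    by_contra hne
    obtain ⟨m, hm, hle⟩ := Ideal.exists_le_maximal _ hne
    exact hf ⟨m, hm.isPrime⟩ (hle (Ideal.subset_span ⟨⟨m, hm.isPrime⟩, rfl⟩))
  obtain ⟨s, hs, hs'⟩ := Submodule.mem_span_finite_of_mem_span ((Ideal.eq_top_iff_one _).1 hspan)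
  have hn : ∀ i : Fin s.toList.length, ∃ t, f t = s.toList[i] := fun i =>
    hs (Finset.mem_toList.1 (List.getElem_mem i.2))
  choose τ hτ using hn
  refine Dlz27.isDualizing_of_powers s.toList.length (fun i => f (τ i)) ?_ N fun i =>
    ⟨DQC.hasLBaseChange _, hf' (τ i)⟩
  rw [Ideal.eq_top_iff_one]
  refine Ideal.span_mono (fun x hx => ?_) hs'
  obtain ⟨i, hi, rfl⟩ := List.mem_iff_getElem.1 (Finset.mem_toList.2 hx)
  exact ⟨⟨i, hi⟩, hτ ⟨i, hi⟩⟩

theorem isDualizingSch_of_cover [IsLocallyNoetherian X]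
    [∀ (U : Scheme.{u}) (j : U ⟶ X) [IsOpenImmersion j], PreservesFiniteLimits (Scheme.Modules.restrictFunctor j)]
    [∀ (R : CommRingCat.{u}), PreservesFiniteLimits (tilde.functor R)] {K : DCoh.D X}
    (h : ∀ x : X, ∃ (R : CommRingCat.{u}) (j : Spec R ⟶ X) (_ : IsOpenImmersion j),
      x ∈ Set.range j ∧ ∃ M, Dual.IsDualizing R M ∧ Mdl K j M) :
    Dual2.IsDualizingSch X K := fun A _ k _ => by
  obtain ⟨N, hN, ⟨e⟩⟩ := exists_model_of_cover h (T := CommRingCat.of A) k
  exact ⟨N, hN, ⟨e⟩⟩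

theorem mdl_of_isDualizingSch
    [∀ (U : Scheme.{u}) (j : U ⟶ X) [IsOpenImmersion j], PreservesFiniteLimits (Scheme.Modules.restrictFunctor j)]
    [∀ (R : CommRingCat.{u}), PreservesFiniteLimits (tilde.functor R)] {K : DCoh.D X}
    (h : Dual2.IsDualizingSch X K) (R : CommRingCat.{u}) (j : Spec R ⟶ X) [IsOpenImmersion j] :
    ∃ M, Dual.IsDualizing R M ∧ Mdl K j M := by
  obtain ⟨M, hM, ⟨e⟩⟩ := h R j
  exact ⟨M, hM, ⟨e⟩⟩

end Groth.Agent.DlzSch27
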