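import Groth.Agent.Lib.DlzSch27.Cover
import Groth.Agent.Lib.AlgSpDecent.GorensteinAt
import Groth.Prelude.Def_Dual3

/-!
# Gorenstein pullbacks of dualizing complexes
-/

set_option autoImplicit false
set_option linter.style.haveILetI false
set_option backward.isDefEq.respectTransparency false
set_option backward.isDefEq.respectTransparency.types false

universe u

open CategoryTheory CategoryTheory.Limits AlgebraicGeometry IsLocalRing

attribute [local instance] HasDerivedCategory.standard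

noncomputable section

namespace Groth.Agent.DlzSch27

theorem nonempty_quot_of_square {R S R' S' : Type u} [CommRing R] [CommRing S] [CommRing R'] [CommRing S']
    [IsLocalRing R] [IsLocalRing R'] (f : R →+* S) (f' : R' →+* S') (a : R ≃+* R') (b : S ≃+* S')
    (h : ∀ r, b (f r) = f' (a r)) :
    Nonempty (S ⧸ (maximalIdeal R).map f ≃+* S' ⧸ (maximalIdeal R').map f') := by
  refine ⟨Ideal.quotientEquiv _ _ b ?_⟩
  have hm : (maximalIdeal R).map a.toRingHom = maximalIdeal R' :=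
    IsLocalRing.eq_maximalIdeal ((Ideal.isMaximal_map_iff_of_bijective _ a.bijective).2 (maximalIdeal.isMaximal R))
  rw [← hm]
  show _ = ((maximalIdeal R).map f).map b.toRingHom
  rw [Ideal.map_map, Ideal.map_map]
  congr 1
  ext r
  exact (h r).symm

theorem nonempty_fibQuot_spec {A B : CommRingCat.{u}} (φ : A ⟶ B) (q : Spec B) :
    Nonempty (Goren15.FibQuot (Spec.map φ) q ≃+*
      (letI := φ.hom.toAlgebra; EGA4.FibLocRing A B (q : PrimeSpectrum B).asIdeal)) := by
  letI := φ.hom.toAlgebra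
  let q' : PrimeSpectrum B := q
  let e := Scheme.arrowStalkMapSpecIso φ q'
  obtain ⟨E⟩ := nonempty_quot_of_square ((Spec.map φ).stalkMap q').hom
    (Localization.localRingHom (q'.comap φ.hom).asIdeal q'.asIdeal φ.hom rfl)
    (Spec.stalkIso A (q'.comap φ.hom)).commRingCatIsoToRingEquiv (Spec.stalkIso B q').commRingCatIsoToRingEquiv
    (fun r => by
      have h := Scheme.localRingHom_comp_stalkIso φ q'
      rw [← h]
      exact (CategoryTheory.Iso.inv_hom_id_apply (Spec.stalkIso B q') _))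
  refine ⟨E.trans (Ideal.quotEquivOfEq ?_)⟩
  show _ = (q'.asIdeal.comap (algebraMap A B)).map (algebraMap A (Localization.AtPrime q'.asIdeal))
  rw [← Localization.AtPrime.map_eq_maximalIdeal, Ideal.map_map]
  congr 1
  ext a
  exact (Localization.localRingHom_to_map (q'.comap φ.hom).asIdeal q'.asIdeal φ.hom rfl a).trans (IsScalarTower.algebraMap_apply A B (Localization.AtPrime q'.asIdeal) a).symm

variable {X Y : Scheme.{u}}

theorem nonempty_fibQuot_of_eq {Z : Scheme.{u}} {g g' : Z ⟶ Y} (h : g = g') (z : Z) :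
    Nonempty (Goren15.FibQuot g z ≃+* Goren15.FibQuot g' z) := by
  subst h; exact ⟨RingEquiv.refl _⟩

theorem nonempty_fibQuot_openImmersion_comp {Z : Scheme.{u}} (k : Z ⟶ X) [IsOpenImmersion k] (f : X ⟶ Y) (z : Z) :
    Nonempty (Goren15.FibQuot (k ≫ f) z ≃+* Goren15.FibQuot f (k z)) := by
  obtain ⟨E⟩ := nonempty_quot_of_square ((k ≫ f).stalkMap z).hom (f.stalkMap (k z)).hom
    (RingEquiv.refl (Y.presheaf.stalk (f (k z)))) (asIso (k.stalkMap z)).symm.commRingCatIsoToRingEquiv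
    (fun r => by
      show (inv (k.stalkMap z)).hom (((k ≫ f).stalkMap z).hom r) = (f.stalkMap (k z)).hom r
      rw [Scheme.Hom.stalkMap_comp]
      exact ConcreteCategory.congr_hom (IsIso.hom_inv_id (k.stalkMap z)) _)
  exact ⟨E⟩

theorem gorenstein_fibLoc_iff {A B : CommRingCat.{u}} (φ : A ⟶ B) (i : Spec A ⟶ Y) [IsOpenImmersion i]
    (k : Spec B ⟶ X) [IsOpenImmersion k] {f : X ⟶ Y} (w : Spec.map φ ≫ i = k ≫ f) (q : Spec B) :
    LocCoh.IsGorensteinLocalRing (Goren15.FibQuot f (k q)) ↔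
      (letI := φ.hom.toAlgebra;
        LocCoh.IsGorensteinLocalRing (EGA4.FibLocRing A B (q : PrimeSpectrum B).asIdeal)) := by
  obtain ⟨e₁⟩ := nonempty_fibQuot_openImmersion_comp k f q
  obtain ⟨e₂⟩ := nonempty_fibQuot_of_eq w q
  obtain ⟨e₃⟩ := AlgSpDecent.GorAt.nonempty_fibQuot_comp_etale (Spec.map φ) i q
  obtain ⟨e₄⟩ := nonempty_fibQuot_spec φ q
  exact Goren15.isGorensteinLocalRing_iff_of_ringEquiv (((e₁.symm.trans e₂.symm).trans e₃).trans e₄)

theorem gorenstein_fibLoc {A B : CommRingCat.{u}} (φ : A ⟶ B) (i : Spec A ⟶ Y) [IsOpenImmersion i]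
    (k : Spec B ⟶ X) [IsOpenImmersion k] {f : X ⟶ Y} (w : Spec.map φ ≫ i = k ≫ f) (q : Spec B)
    (h : Dual3.IsGorensteinAt f (k q)) :
    letI := φ.hom.toAlgebra
    LocCoh.IsGorensteinLocalRing (EGA4.FibLocRing A B (q : PrimeSpectrum B).asIdeal) :=
  (gorenstein_fibLoc_iff φ i k w q).1 ((Goren15.isGorensteinAt_iff f (k q)).1 h).2

theorem flat_of_isGorensteinMor {f : X ⟶ Y} (hf : Dual3.IsGorensteinMor f) : Flat f :=
  (Flat.iff_flat_stalkMap f).2 fun x => (hf x).1

/-- Pullback along a Gorenstein morphism, on charts. -/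
theorem mdl_lpull {A B : CommRingCat.{u}} (φ : A ⟶ B) [DRing.HasLBaseChange φ.hom] (i : Spec A ⟶ Y) [IsOpenImmersion i]
    (k : Spec B ⟶ X) [IsOpenImmersion k] {f : X ⟶ Y} [DCoh.HasLpull f] (w : Spec.map φ ≫ i = k ≫ f)
    {K : DCoh.D Y} {M : Dual.D A} (hM : Mdl K i M) :
    Mdl ((DCoh.Lpull f).obj K) k ((DRing.LBaseChange φ.hom).obj M) := by
  haveI := KFlat.Sch.hasLpull (Spec.map φ)
  obtain ⟨a⟩ := hM
  obtain ⟨e⟩ := DQC.nonempty_chart_iso f i k (Spec.map φ) w K
  exact ⟨e ≪≫ (DCoh.Lpull (Spec.map φ)).mapIso a ≪≫ ((KFlat.Sch.lpullTildeIso φ).app M).symm⟩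

theorem isDualizing_chart {A B : CommRingCat.{u}} (φ : A ⟶ B) [DRing.HasLBaseChange φ.hom] [IsNoetherianRing A]
    (i : Spec A ⟶ Y) [IsOpenImmersion i] (k : Spec B ⟶ X) [IsOpenImmersion k] {f : X ⟶ Y}
    (w : Spec.map φ ≫ i = k ≫ f) [LocallyOfFiniteType f] (hf : Dual3.IsGorensteinMor f) {M : Dual.D A}
    (hM : Dual.IsDualizing A M) : Dual.IsDualizing B ((DRing.LBaseChange φ.hom).obj M) := by
  haveI := flat_of_isGorensteinMor hf
  haveI : Flat (Spec.map φ ≫ i) := by rw [w]; infer_instance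
  haveI : Flat (Spec.map φ) := MorphismProperty.of_postcomp (W' := @IsOpenImmersion) @Flat (Spec.map φ) i ‹_› ‹_›
  haveI : LocallyOfFiniteType (Spec.map φ ≫ i) := by rw [w]; infer_instance
  haveI : LocallyOfFiniteType (Spec.map φ) := locallyOfFiniteType_of_comp (Spec.map φ) i
  letI := φ.hom.toAlgebra
  haveI : Module.Flat A B := (HasRingHomProperty.Spec_iff (P := @Flat)).1 ‹_›
  haveI : Algebra.FiniteType A B := (HasRingHomProperty.Spec_iff (P := @LocallyOfFiniteType)).1 ‹_›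
  haveI : IsNoetherianRing B := Algebra.FiniteType.isNoetherianRing A B
  exact GorFib27.isDualizing_LBaseChange_of_gorenstein hM
    (GorFib27.dim_lt_top_of_finiteType (Dlz27.ringKrullDim_lt_top hM (Dlz27.model hM)))
    fun q => gorenstein_fibLoc φ i k w q (hf _)

theorem isDualizingSch_lpull [IsLocallyNoetherian X] [IsLocallyNoetherian Y]
    [∀ (U V : Scheme.{u}) (j : U ⟶ V) [IsOpenImmersion j], PreservesFiniteLimits (Scheme.Modules.restrictFunctor j)]
    [∀ (R : CommRingCat.{u}), PreservesFiniteLimits (tilde.functor R)]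
    (f : X ⟶ Y) [LocallyOfFiniteType f] (hf : Dual3.IsGorensteinMor f) [DCoh.HasLpull f] {K : DCoh.D Y}
    (hK : Dual2.IsDualizingSch Y K) : Dual2.IsDualizingSch X ((DCoh.Lpull f).obj K) :=
  isDualizingSch_of_cover fun x => by
    obtain ⟨A, B, φ, i, _, k, _, hx, w⟩ := DQC.exists_chart f x
    haveI := isNoetherianRing_of_chart i
    obtain ⟨M, hM, hM'⟩ := mdl_of_isDualizingSch hK A i
    haveI := DQC.hasLBaseChange φ.hom
    exact ⟨B, k, inferInstance, hx, _, isDualizing_chart φ i k w hf hM, mdl_lpull φ i k w hM'⟩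

end Groth.Agent.DlzSch27
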