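import Groth.Agent.Lib.DlzSch27.Structure
import Groth.Agent.Lib.Dlz27.GorLocus

/-!
# Gorenstein schemes and invertible dualizing complexes
-/

set_option autoImplicit false
set_option linter.style.haveILetI false
set_option backward.isDefEq.respectTransparency false
set_option backward.isDefEq.respectTransparency.types false

universe u

open CategoryTheory CategoryTheory.Limits AlgebraicGeometry

attribute [local instance] HasDerivedCategory.standard

noncomputable section

namespace Groth.Agent.DlzSch27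

open Dlz27

theorem exists_iso_single_of_data {A : Type u} [CommRing A] (S : Submonoid A) (W : DRing.Cx A) (j₀ : ℤ) (x : W.homology j₀)
    (hj : ∀ j ≠ j₀, ∀ y : W.homology j, ∃ s ∈ S, s • y = 0) (hinj : ∀ a : A, a • x = 0 → ∃ s ∈ S, s * a = 0)
    (hsur : ∀ y : W.homology j₀, ∃ s ∈ S, ∃ a : A, s • y = a • x) :
    Nonempty (DerivedCategory.Q.obj (locCx S W) ≅ (Dual.inD (Localization S) (Localization S))⟦-j₀⟧) := by
  let L := Localization S
  let g : ∀ i, W.homology i →ₗ[A] (W.homology i).localizedModule S := fun i => (W.homology i).localizedModuleMkLinearMap S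
  have hgs : ∀ i (s : A) (y : W.homology i), g i (s • y) = algebraMap A L s • g i y := fun i s y =>
    (map_smul (g i) s y).trans (algebraMap_smul L s (g i y)).symm
  let φ : L →ₗ[L] (W.homology j₀).localizedModule S := LinearMap.toSpanSingleton L _ (g j₀ x)
  have hφ : Function.Bijective φ := by
    refine ⟨(injective_iff_map_eq_zero φ).2 fun b hb => ?_, fun y => ?_⟩
    · obtain ⟨⟨a, u⟩, hau⟩ := IsLocalization.surj S b
      have h0 : g j₀ (a • x) = 0 := by
        rw [hgs, ← hau, mul_comm, mul_smul]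
        exact (congrArg (algebraMap A L u • ·) (show b • g j₀ x = 0 from hb)).trans (smul_zero _)
      obtain ⟨c, hc⟩ := (IsLocalizedModule.eq_zero_iff S (g j₀)).1 h0
      rw [Submonoid.smul_def, smul_smul] at hc
      obtain ⟨d, hd, hd'⟩ := hinj _ hc
      refine ((IsLocalization.map_units L u).mul_left_eq_zero).1 ?_
      rw [hau, IsLocalization.map_eq_zero_iff S]
      exact ⟨⟨d * c, S.mul_mem hd c.2⟩, by rw [← hd']; exact mul_assoc d _ a⟩
    · obtain ⟨⟨y, u⟩, hu⟩ := IsLocalizedModule.surj S (g j₀) y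
      obtain ⟨c, hc, a, ha⟩ := hsur y
      refine ⟨IsLocalization.mk' L a (⟨c, hc⟩ * u : S), ?_⟩
      have hcu : IsUnit (algebraMap A L (c * (u : A))) := IsLocalization.map_units L (⟨c, hc⟩ * u : S)
      refine hcu.smul_left_cancel.1 ?_
      show algebraMap A L (c * (u : A)) • (IsLocalization.mk' L a (⟨c, hc⟩ * u : S) • g j₀ x) = _
      rw [smul_smul, mul_comm, ← Submonoid.coe_mul S ⟨c, hc⟩ u, IsLocalization.mk'_spec, ← hgs, ← ha, hgs,
        show g j₀ y = _ from hu.symm, Submonoid.coe_mul, map_mul, mul_smul, Submonoid.smul_def]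
      exact congrArg (algebraMap A L c • ·) (algebraMap_smul L (u : A) _).symm
  have hz : ∀ i, i ≠ j₀ → IsZero ((DerivedCategory.homologyFunctor (ModuleCat.{u} L) i).obj
      (DerivedCategory.Q.obj (locCx S W))) := fun i hi => by
    haveI : Subsingleton ((W.homology i).localizedModule S) := subsingleton_of_forall_eq 0 fun y => by
      obtain ⟨⟨y', u⟩, hu⟩ := IsLocalizedModule.surj S (g i) y
      obtain ⟨c, hc, hc'⟩ := hj i hi y'
      have h0 : g i y' = 0 := (IsLocalizedModule.eq_zero_iff S (g i)).2 ⟨⟨c, hc⟩, hc'⟩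
      exact IsLocalizedModule.smul_injective (g i) u (hu.trans (h0.trans (smul_zero u).symm))
    exact @ModuleCat.isZero_of_subsingleton _ _ _ ((homLocEquiv S W i).symm.toEquiv.subsingleton)
  haveI : (DerivedCategory.Q.obj (locCx S W)).IsGE j₀ :=
    (DerivedCategory.isGE_iff _ _).2 fun i hi => hz i (by omega)
  haveI : (DerivedCategory.Q.obj (locCx S W)).IsLE j₀ :=
    (DerivedCategory.isLE_iff _ _).2 fun i hi => hz i (by omega)
  obtain ⟨Y, ⟨e⟩⟩ := DerivedCategory.exists_iso_singleFunctor_obj_of_isGE_of_isLE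
    (DerivedCategory.Q.obj (locCx S W)) j₀
  let eY : Y ≅ ModuleCat.of L L :=
    ((DerivedCategory.singleFunctorCompHomologyFunctorIso (ModuleCat.{u} L) j₀).app Y).symm ≪≫
      (DerivedCategory.homologyFunctor (ModuleCat.{u} L) j₀).mapIso e.symm ≪≫
      ((LinearEquiv.ofBijective φ hφ ≪≫ₗ homLocEquiv S W j₀).toModuleIso (X₁ := L)).symm
  exact ⟨e ≪≫ (DerivedCategory.singleFunctor _ j₀).mapIso eY ≪≫
    (((DerivedCategory.singleFunctors (ModuleCat.{u} L)).shiftIso (-j₀) j₀ 0 (by omega)).app (ModuleCat.of L L)).symm⟩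

theorem exists_away_of_oneFree {A : Type u} [CommRing A] (W : DRing.Cx A) (lo hi : ℤ) [W.IsStrictlyGE lo]
    [W.IsStrictlyLE hi] (hfin : ∀ i, Module.Finite A (W.homology i)) (p : PrimeSpectrum A) (hp : OneFree W p)
    [IsNoetherianRing A] :
    ∃ (f : A) (n : ℤ), f ∉ p.asIdeal ∧ Nonempty (DerivedCategory.Q.obj (locCx (Submonoid.powers f) W) ≅
      (Dual.inD (Localization.Away f) (Localization.Away f))⟦n⟧) := by
  classical
  obtain ⟨j₀, x, hj, hinj, hsur⟩ := hp
  have hk : ∀ j, ∃ s ∉ p.asIdeal, j ≠ j₀ → ∀ y : W.homology j, s • y = 0 := fun j => by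
    by_cases h : j = j₀
    · exact ⟨1, p.asIdeal.one_notMem, fun h' => absurd h h'⟩
    · haveI := hfin j
      obtain ⟨s, hs, hs'⟩ := exists_killer p (W.homology j) (hj j h)
      exact ⟨s, hs, fun _ => hs'⟩
  choose s hs hs' using hk
  let K := LinearMap.ker (LinearMap.toSpanSingleton A (W.homology j₀) x)
  obtain ⟨t, ht, ht'⟩ := exists_killer p K fun a => by
    obtain ⟨c, hc, hc'⟩ := hinj a (LinearMap.mem_ker.1 a.2)
    exact ⟨c, hc, Subtype.ext hc'⟩
  haveI := hfin j₀
  obtain ⟨v, hv, hv'⟩ := exists_killer p (W.homology j₀ ⧸ Submodule.span A {x}) fun y => by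
    obtain ⟨y, rfl⟩ := Submodule.Quotient.mk_surjective _ y
    obtain ⟨c, hc, a, ha⟩ := hsur y
    refine ⟨c, hc, ?_⟩
    rw [← Submodule.Quotient.mk_smul, Submodule.Quotient.mk_eq_zero, ha]
    exact Submodule.smul_mem _ a (Submodule.mem_span_singleton_self x)
  let f := t * v * ∏ j ∈ Finset.Icc lo hi, s j
  refine ⟨f, -j₀, fun hf => ?_, exists_iso_single_of_data (Submonoid.powers f) W j₀ x
    (fun j hjne y => ⟨f, Submonoid.mem_powers f, ?_⟩) (fun a ha => ⟨f, Submonoid.mem_powers f, ?_⟩)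
    (fun y => ⟨f, Submonoid.mem_powers f, ?_⟩)⟩
  · rcases p.isPrime.mem_or_mem hf with h | h
    · exact (p.isPrime.mem_or_mem h).elim ht hv
    · obtain ⟨j, -, hj'⟩ := p.isPrime.prod_mem_iff.1 h
      exact hs j hj'
  · by_cases hmem : j ∈ Finset.Icc lo hi
    · obtain ⟨d, hd⟩ : s j ∣ f := Dvd.dvd.mul_left (Finset.dvd_prod_of_mem s hmem) _
      rw [hd, mul_comm, mul_smul, hs' j hjne, smul_zero]
    · haveI : Subsingleton (W.homology j) := by
        have hX : IsZero (W.X j) := by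
          rw [Finset.mem_Icc, not_and_or, not_le, not_le] at hmem
          exact hmem.elim (fun h => W.isZero_of_isStrictlyGE lo j h) (fun h => W.isZero_of_isStrictlyLE hi j h)
        exact ModuleCat.subsingleton_of_isZero ((W.sc j).exact_iff_isZero_homology.1 ((W.sc j).exact_of_isZero_X₂ hX))
      exact Subsingleton.elim _ _
  · have := congrArg Subtype.val (ht' ⟨a, LinearMap.mem_ker.2 ha⟩)
    rw [SetLike.val_smul, smul_eq_mul, ZeroMemClass.coe_zero] at this
    show t * v * (∏ j ∈ Finset.Icc lo hi, s j) * a = 0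
    calc _ = v * (∏ j ∈ Finset.Icc lo hi, s j) * (t * a) := by ring
      _ = 0 := by rw [this, mul_zero]
  · have h1 := hv' (Submodule.Quotient.mk y)
    rw [← Submodule.Quotient.mk_smul, Submodule.Quotient.mk_eq_zero, Submodule.mem_span_singleton] at h1
    obtain ⟨a, ha⟩ := h1
    refine ⟨t * (∏ j ∈ Finset.Icc lo hi, s j) * a, ?_⟩
    rw [mul_smul _ a, ha, ← mul_smul]
    congr 1
    show t * v * _ = _
    ring

theorem isGorenstein_of_self_dualizing {A : Type u} [CommRing A] [IsNoetherianRing A]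
    (h : Dual.IsDualizing A (Dual.inD A A)) (p : PrimeSpectrum A) :
    LocCoh.IsGorensteinLocalRing (Localization.AtPrime p.asIdeal) := by
  let M := model h
  haveI : IsNoetherianRing (Localization p.asIdeal.primeCompl) :=
    IsLocalization.isNoetherianRing p.asIdeal.primeCompl _ inferInstance
  obtain ⟨e⟩ := exists_locCx_iso p.asIdeal.primeCompl M.W A M.e
  haveI := isLocalizedModule_mkL p.asIdeal.primeCompl (ModuleCat.of A A)
  let l : Localization p.asIdeal.primeCompl ≃ₗ[Localization p.asIdeal.primeCompl]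
      (ModuleCat.of A A).localizedModule p.asIdeal.primeCompl :=
    (IsLocalizedModule.linearEquiv p.asIdeal.primeCompl (Algebra.linearMap A (Localization p.asIdeal.primeCompl))
      (mkL p.asIdeal.primeCompl (ModuleCat.of A A))).extendScalarsOfIsLocalization
        p.asIdeal.primeCompl (Localization p.asIdeal.primeCompl)
  exact (gorenstein_iff_isDualizing (Localization.AtPrime p.asIdeal)).2
    (isDualizing_of_iso (e ≪≫ (DerivedCategory.singleFunctor _ 0).mapIso l.symm.toModuleIso)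
      (isDualizing_locCx p.asIdeal.primeCompl h M))

variable {X : Scheme.{u}}

theorem nonempty_resD_structure {Z : Scheme.{u}} (j : Z ⟶ X) [IsOpenImmersion j] :
    Nonempty ((DPerf.resD j).obj (DCoh.inD X (Coh.structureModule X)) ≅ DCoh.inD Z (Coh.structureModule Z)) :=
  ⟨((Scheme.Modules.restrictFunctor j).mapDerivedCategorySingleFunctor 0).app _ ≪≫
    (DerivedCategory.singleFunctor Z.Modules 0).mapIso (Scheme.Modules.restrictUnitIso j)⟩

theorem isGorenstein_of_isInvertibleD [IsLocallyNoetherian X]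
    [∀ (U V : Scheme.{u}) (j : U ⟶ V) [IsOpenImmersion j], PreservesFiniteLimits (Scheme.Modules.restrictFunctor j)]
    [∀ (R : CommRingCat.{u}), PreservesFiniteLimits (tilde.functor R)] {K : DCoh.D X}
    (hK : Dual2.IsDualizingSch X K) (h : Dual3.IsInvertibleD K) : Dual3.IsGorenstein X := by
  refine ⟨inferInstance, fun x => ?_⟩
  obtain ⟨U, n, hxU, ⟨e⟩⟩ := h x
  obtain ⟨_, ⟨W, hW, rfl⟩, hxW, hWU⟩ :=
    (X.isBasis_affineOpens).exists_subset_of_mem_open (show x ∈ (U : Set X) from hxU) U.isOpen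
  obtain ⟨p, rfl⟩ : x ∈ Set.range hW.fromSpec := by rw [hW.range_fromSpec]; exact hxW
  have hr : Set.range hW.fromSpec ⊆ Set.range U.ι := by
    rw [hW.range_fromSpec, Scheme.Opens.range_ι]; exact hWU
  let l : Spec Γ(X, W) ⟶ U := IsOpenImmersion.lift U.ι hW.fromSpec hr
  have hl : l ≫ U.ι = hW.fromSpec := IsOpenImmersion.lift_fac _ _ _
  haveI : IsOpenImmersion (l ≫ U.ι) := by rw [hl]; infer_instance
  haveI : IsOpenImmersion l := IsOpenImmersion.of_comp l U.ι
  haveI : IsNoetherianRing Γ(X, W) := IsLocallyNoetherian.component_noetherian ⟨W, hW⟩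
  obtain ⟨M, hM, ⟨eM⟩⟩ := mdl_of_isDualizingSch hK Γ(X, W) hW.fromSpec
  obtain ⟨a⟩ := nonempty_resD_structure (X := (U : Scheme.{u})) l
  obtain ⟨b⟩ := mdl_structureModule (X := Spec Γ(X, W)) (𝟙 (Spec Γ(X, W)))
  obtain ⟨b'⟩ := nonempty_resD_structure (X := Spec Γ(X, W)) (𝟙 (Spec Γ(X, W)))
  have e' : Nonempty ((DPerf.resD hW.fromSpec).obj K ≅ (DPerf.resD (l ≫ U.ι)).obj K) := by
    revert ‹IsOpenImmersion (l ≫ U.ι)›
    rw [hl]
    intro _
    exact ⟨Iso.refl _⟩
  obtain ⟨c⟩ := nonempty_iso_of_tilde (R := Γ(X, W)) (eM.symm ≪≫ e'.some ≪≫ ((DPerf.resDComp U.ι l).app K).symm ≪≫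
    (DPerf.resD l).mapIso e ≪≫ ((DPerf.resD l).commShiftIso n).app _ ≪≫
      (shiftFunctor _ n).mapIso (a ≪≫ b'.symm ≪≫ b) ≪≫
        (((DPerf.tildeDD Γ(X, W)).commShiftIso n).app (Dual.inD Γ(X, W) Γ(X, W))).symm)
  have hself : Dual.IsDualizing Γ(X, W) (Dual.inD Γ(X, W) Γ(X, W)) :=
    isDualizing_of_iso ((shiftFunctor _ (-n)).mapIso c ≪≫ (shiftFunctorCompIsoId _ n (-n) (add_neg_cancel n)).app _)
      (isDualizing_shift hM (-n))
  obtain ⟨g⟩ := DlzSchCM27.exists_stalk_ringEquiv (A := Γ(X, W)) hW.fromSpec p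
  exact (Goren15.isGorensteinLocalRing_iff_of_ringEquiv g).2 (isGorenstein_of_self_dualizing hself p)

theorem isInvertibleD_of_isGorenstein
    [∀ (U V : Scheme.{u}) (j : U ⟶ V) [IsOpenImmersion j], PreservesFiniteLimits (Scheme.Modules.restrictFunctor j)]
    [∀ (R : CommRingCat.{u}), PreservesFiniteLimits (tilde.functor R)] {K : DCoh.D X}
    (hK : Dual2.IsDualizingSch X K) (hX : Dual3.IsGorenstein X) : Dual3.IsInvertibleD K := by
  intro x
  haveI := hX.1
  obtain ⟨_, ⟨W, hW, rfl⟩, hxW, -⟩ :=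
    (X.isBasis_affineOpens).exists_subset_of_mem_open (Set.mem_univ x) isOpen_univ
  obtain ⟨p, rfl⟩ : x ∈ Set.range hW.fromSpec := by rw [hW.range_fromSpec]; exact hxW
  let A := Γ(X, W)
  let p' : PrimeSpectrum A := p
  haveI : IsNoetherianRing A := IsLocallyNoetherian.component_noetherian ⟨W, hW⟩
  obtain ⟨M, hM, hMdl⟩ := mdl_of_isDualizingSch hK A hW.fromSpec
  let Mo := model hM
  haveI : ∀ q : PrimeSpectrum A, IsNoetherianRing (Localization q.asIdeal.primeCompl) := fun q =>
    IsLocalization.isNoetherianRing q.asIdeal.primeCompl _ inferInstance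
  obtain ⟨g⟩ := DlzSchCM27.exists_stalk_ringEquiv (A := A) hW.fromSpec p
  have hg : LocCoh.IsGorensteinLocalRing (Localization.AtPrime p'.asIdeal) :=
    (Goren15.isGorensteinLocalRing_iff_of_ringEquiv g).1 (hX.2 _)
  haveI := Mo.isGE
  haveI := Mo.isLE
  obtain ⟨f, n, hf, ⟨eW⟩⟩ := exists_away_of_oneFree Mo.W Mo.lo Mo.hi
    (finite_homology_model hM.finite_cohomology Mo.W Mo.e) p'
    ((oneFree_iff_exists_iso Mo.W p').2
      (exists_shift_iso ((gorenstein_iff_isDualizing _).1 hg) (isDualizing_omegaAt hM Mo p')))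
  let S := CommRingCat.of (Localization.Away f)
  let ψ : A ⟶ S := CommRingCat.ofHom (algebraMap A (Localization.Away f))
  haveI : IsOpenImmersion (Spec.map ψ) := IsOpenImmersion.of_isLocalization f
  haveI := DQC.hasLBaseChange ψ.hom
  haveI : DRing.HasLBaseChange (algebraMap A (Localization (Submonoid.powers f))) := DQC.hasLBaseChange _
  obtain ⟨eS⟩ := exists_LBaseChange_iso (Submonoid.powers f) Mo.W
  obtain ⟨eN⟩ := hMdl.res ψ (k := Spec.map ψ ≫ hW.fromSpec) rfl
  let N := (Dual.inD (Localization.Away f) (Localization.Away f))⟦n⟧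
  have eMN : Nonempty ((DRing.LBaseChange ψ.hom).obj M ≅ N) :=
    ⟨((DRing.LBaseChange (algebraMap A (Localization (Submonoid.powers f)))).mapIso Mo.e).symm ≪≫ eS ≪≫ eW⟩
  let k := Spec.map ψ ≫ hW.fromSpec
  let V : X.Opens := k.opensRange
  let s : (V : Scheme.{u}) ⟶ Spec S := k.isoOpensRange.inv
  have hs : s ≫ k = V.ι := by simp [s, V]
  haveI : IsOpenImmersion (s ≫ k) := by rw [hs]; infer_instance
  have e' : Nonempty ((DPerf.resD V.ι).obj K ≅ (DPerf.resD (s ≫ k)).obj K) := by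
    revert ‹IsOpenImmersion (s ≫ k)›
    rw [hs]
    intro _
    exact ⟨Iso.refl _⟩
  obtain ⟨a⟩ := nonempty_resD_structure (X := Spec S) s
  obtain ⟨b⟩ := mdl_structureModule (X := Spec S) (𝟙 (Spec S))
  obtain ⟨b'⟩ := nonempty_resD_structure (X := Spec S) (𝟙 (Spec S))
  have hpV : hW.fromSpec p ∈ V := by
    obtain ⟨q, hq⟩ : p' ∈ Set.range (PrimeSpectrum.comap (algebraMap A (Localization.Away f))) := by
      rw [PrimeSpectrum.localization_away_comap_range (Localization.Away f) f]; exact hf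
    exact ⟨q, congrArg hW.fromSpec hq⟩
  exact ⟨V, n, hpV, ⟨e'.some ≪≫ ((DPerf.resDComp k s).app K).symm ≪≫ (DPerf.resD s).mapIso (eN ≪≫
    (DPerf.tildeDD S).mapIso eMN.some ≪≫ ((DPerf.tildeDD S).commShiftIso n).app (Dual.inD S S) ≪≫
      (shiftFunctor _ n).mapIso (b.symm ≪≫ b')) ≪≫ ((DPerf.resD s).commShiftIso n).app _ ≪≫
        (shiftFunctor _ n).mapIso a⟩⟩

end Groth.Agent.DlzSch27
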