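import Groth.Agent.Lib.DlzSch27.LowestSheaf
import Groth.Agent.Lib.RefHull26.DepthExt
import Groth.Agent.S2054

/-!
# The dualizing sheaf of a normal scheme is reflexive
-/

set_option autoImplicit false
set_option linter.style.haveILetI false
set_option backward.isDefEq.respectTransparency false
set_option backward.isDefEq.respectTransparency.types false

universe u

open CategoryTheory CategoryTheory.Limits AlgebraicGeometry

attribute [local instance] HasDerivedCategory.standard

noncomputable section

namespace Groth.Agent.DlzSch27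

variable {X : Scheme.{u}}

theorem isReflexive_lowest [IsLocallyNoetherian X]
    [∀ (U : Scheme.{u}) (j : U ⟶ X) [IsOpenImmersion j], PreservesFiniteLimits (Scheme.Modules.restrictFunctor j)]
    [∀ (R : CommRingCat.{u}), PreservesFiniteLimits (tilde.functor R)] {K : DCoh.D X}
    (hK : Dual2.IsDualizingSch X K) (n : ℤ) (hlt : ∀ i : ℤ, i < n → IsZero (DCoh.HD K i)) (x : X)
    (hd : IsDomain (X.presheaf.stalk x)) (hc : IsIntegrallyClosed (X.presheaf.stalk x)) :
    Module.IsReflexive (X.presheaf.stalk x) ((DCoh.HD K n).presheaf.stalk x) := by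
  obtain ⟨_, ⟨U, hU, rfl⟩, hxU, -⟩ :=
    (X.isBasis_affineOpens).exists_subset_of_mem_open (Set.mem_univ x) isOpen_univ
  obtain ⟨p, rfl⟩ : x ∈ Set.range hU.fromSpec := by rw [hU.range_fromSpec]; exact hxU
  haveI : IsNoetherianRing Γ(X, U) := IsLocallyNoetherian.component_noetherian ⟨U, hU⟩
  let p' : PrimeSpectrum Γ(X, U) := p
  let L := Localization.AtPrime p'.asIdeal
  obtain ⟨ω, hω, hM⟩ := mdl_of_isDualizingSch hK Γ(X, U) hU.fromSpec
  obtain ⟨σ, e, he⟩ := exists_stalkEquiv_aux K hU.fromSpec ω hM p n
  haveI := hω.finite_cohomology n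
  let N := LocalizedModule p'.asIdeal.primeCompl (Dual.HD Γ(X, U) ω n)
  haveI : Module.Finite L N :=
    Module.Finite.of_isLocalizedModule p'.asIdeal.primeCompl
      (LocalizedModule.mkLinearMap p'.asIdeal.primeCompl (Dual.HD Γ(X, U) ω n))
  obtain ⟨h2, htf⟩ := localized_lowest hω p' n fun i hi => subsingleton_HD_of_isZero hM i (hlt i hi)
  haveI : IsDomain L := σ.symm.toMulEquiv.isDomain
  haveI : IsIntegrallyClosed L := IsIntegrallyClosed.of_equiv σ
  haveI : IsNoetherianRing L := IsLocalization.isNoetherianRing p'.asIdeal.primeCompl _ inferInstance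
  haveI : Module.IsReflexive L N := S2054.result.2
    ⟨⟨fun {a v} h => (em (a = 0)).imp_right fun ha => htf inferInstance a ha v h⟩, h2⟩
  exact RH26.isReflexive_of_ringEquiv σ e he

end Groth.Agent.DlzSch27
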