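import Groth.Agent.Lib.DlzSch27.Stalk
import Groth.Agent.Lib.Dlz27.Lowest
import Groth.Agent.Lib.Dlz27.GorLocus
import Groth.Agent.Lib.FibDepth5.Bridge

/-!
# The lowest cohomology sheaf of a dualizing complex
-/

set_option autoImplicit false
set_option linter.style.haveILetI false
set_option backward.isDefEq.respectTransparency false
set_option backward.isDefEq.respectTransparency.types false

universe u

open CategoryTheory CategoryTheory.Limits AlgebraicGeometry

attribute [local instance] HasDerivedCategory.standard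

noncomputable section

namespace Groth.Agent.DlzSch27

open Dlz27

variable {A : Type u} [CommRing A]

theorem le_deg_of_vanish [IsNoetherianRing A] {ω : Dual.D A} (hω : Dual.IsDualizing A ω) (M : Model ω) (c : ℤ)
    (h : ∀ i < c, Subsingleton (M.W.homology i)) (r : PrimeSpectrum A) : c ≤ deg hω M r := by
  obtain ⟨q, hq, hqr⟩ := Ideal.exists_minimalPrimes_le (I := (⊥ : Ideal A)) (J := r.asIdeal) bot_le
  let Q : PrimeSpectrum A := ⟨q, hq.1.1⟩
  have h1 := (deg_strictMono hω M).monotone (show Q ≤ r from hqr)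
  by_contra hc
  refine (vanS_self_minimal_iff M hω Q hq (deg hω M Q)).1 ?_ rfl
  refine (DlzSchCM27.vanS_self_iff M.W _ _).2 fun z => ⟨1, one_mem _, ?_⟩
  have := h (deg hω M Q) (by omega)
  exact Subsingleton.elim _ _

theorem torsion_free_lowest [IsLocalRing A] [IsNoetherianRing A] [IsDomain A] {ω : Dual.D A}
    (hω : Dual.IsDualizing A ω) (M : Model ω) (c : ℤ) (hc : ∀ p : PrimeSpectrum A, c ≤ deg hω M p)
    (a : A) (ha : a ≠ 0) (v : M.W.homology c) (h : a • v = 0) : v = 0 := by
  by_contra hv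
  obtain ⟨P, hP, hle⟩ := exists_le_isAssociatedPrime_of_isNoetherianRing A v hv
  let P' : PrimeSpectrum A := ⟨P, IsAssociatedPrime.isPrime hP⟩
  have haP : a ∈ P := hle (by simp only [Submodule.mem_colon_singleton, Submodule.mem_bot]; exact h)
  let O : PrimeSpectrum A := ⟨⊥, Ideal.isPrime_bot⟩
  have hlt : O < P' := lt_of_le_of_ne (show (⊥ : Ideal A) ≤ P from bot_le) fun e => ha (by
    have : P = ⊥ := (congrArg PrimeSpectrum.asIdeal e).symm
    rw [this] at haP; simpa using haP)
  have h1 := deg_strictMono hω M hlt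
  have h2 := hc O
  exact notMem_ass hω M hc P' (by omega) hP

variable [IsNoetherianRing A]

theorem localized_lowest {ω : Dual.D A} (hω : Dual.IsDualizing A ω) (p : PrimeSpectrum A) (c : ℤ)
    (h : ∀ i < c, Subsingleton (Dual.HD A ω i)) :
    LocCoh.HasSk 2 (Localization.AtPrime p.asIdeal) (LocalizedModule p.asIdeal.primeCompl (Dual.HD A ω c)) ∧
    (IsDomain (Localization.AtPrime p.asIdeal) → ∀ (a : Localization.AtPrime p.asIdeal), a ≠ 0 →
      ∀ v : LocalizedModule p.asIdeal.primeCompl (Dual.HD A ω c), a • v = 0 → v = 0) := by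
  let S := p.asIdeal.primeCompl
  let L := Localization.AtPrime p.asIdeal
  let M := model hω
  haveI : IsNoetherianRing L := IsLocalization.isNoetherianRing S _ inferInstance
  have hω' : Dual.IsDualizing L (DerivedCategory.Q.obj (locCx S M.W)) := isDualizing_locCx S hω M
  let M' := model hω'
  let eH : ∀ i, M.W.homology i ≃ₗ[A] Dual.HD A ω i := fun i =>
    ((DerivedCategory.homologyFunctorFactors (ModuleCat.{u} A) i).app M.W).toLinearEquiv.symm ≪≫ₗ
      ((DerivedCategory.homologyFunctor (ModuleCat.{u} A) i).mapIso M.e).toLinearEquiv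
  let e' : ∀ i, M'.W.homology i ≃ₗ[L] (M.W.homology i).localizedModule S := fun i =>
    ((DerivedCategory.homologyFunctorFactors (ModuleCat.{u} L) i).app M'.W).toLinearEquiv.symm ≪≫ₗ
      ((DerivedCategory.homologyFunctor (ModuleCat.{u} L) i).mapIso M'.e).toLinearEquiv ≪≫ₗ (homLocEquiv S M.W i).symm
  haveI hl := fun i => isLocalizedModule_mkL S (M.W.homology i)
  let l : LocalizedModule S (Dual.HD A ω c) ≃ₗ[L] (M.W.homology c).localizedModule S :=
    IsLocalizedModule.mapEquiv S (LocalizedModule.mkLinearMap S (Dual.HD A ω c)) (mkL S (M.W.homology c)) L (eH c).symm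
  let ψ : LocalizedModule S (Dual.HD A ω c) ≃ₗ[L] M'.W.homology c := l ≪≫ₗ (e' c).symm
  have hvan : ∀ i < c, Subsingleton (M'.W.homology i) := fun i hi => by
    haveI := h i hi
    haveI : Subsingleton (M.W.homology i) := (eH i).toEquiv.subsingleton
    haveI : Subsingleton ((M.W.homology i).localizedModule S) := subsingleton_of_forall_eq 0 fun y => by
      obtain ⟨⟨y', s⟩, hy⟩ := IsLocalizedModule.surj S (mkL S (M.W.homology i)) y
      refine IsLocalizedModule.smul_injective (mkL S (M.W.homology i)) s (hy.trans ?_)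
      rw [show y' = 0 from Subsingleton.elim _ _, map_zero]
      exact (smul_zero s).symm
    exact (e' i).toEquiv.subsingleton
  have hc : ∀ q : PrimeSpectrum L, c ≤ deg hω' M' q := le_deg_of_vanish hω' M' c hvan
  refine ⟨FibDepth5.hasSk_congr' ψ.symm (hasSk_two_homology hω' M' hc), fun _ a ha v hv => ?_⟩
  refine ψ.injective ((torsion_free_lowest hω' M' c hc a ha (ψ v) ?_).trans (map_zero ψ).symm)
  rw [← map_smul, hv, map_zero]

theorem hasSk_of_semilinear {R R' : Type u} [CommRing R] [CommRing R'] (σ : R ≃+* R') {N N' : Type u}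
    [AddCommGroup N] [Module R N] [AddCommGroup N'] [Module R' N'] [Module.Finite R' N'] (e : N ≃+ N')
    (h : ∀ a v, e (a • v) = σ a • e v) (k : ℕ) (hk : LocCoh.HasSk k R' N') : LocCoh.HasSk k R N := by
  letI : Algebra R R' := σ.toRingHom.toAlgebra
  letI : Module R N' := Module.compHom N' σ.toRingHom
  haveI : IsScalarTower R R' N' := IsScalarTower.of_algebraMap_smul fun _ _ => rfl
  let l : N ≃ₗ[R] N' := { e with map_smul' := h }
  exact FibDepth5.hasSk_congr' l.symm ((FibDepth5.hasSk_of_surjective (L := R) σ.surjective k).2 hk)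

end Groth.Agent.DlzSch27

namespace Groth.Agent.DlzSch27

variable {X : Scheme.{u}}

theorem subsingleton_HD_of_isZero {R : CommRingCat.{u}} {K : DCoh.D X} {j : Spec R ⟶ X} [IsOpenImmersion j]
    {ω : Dual.D R} (hM : Mdl K j ω) (i : ℤ) (h : IsZero (DCoh.HD K i)) : Subsingleton (Dual.HD R ω i) := by
  obtain ⟨e₀⟩ := hM
  let a : (DCoh.HD K i).restrict j ≅
      (tilde.functor R).obj ((DerivedCategory.homologyFunctor (ModuleCat.{u} R) i).obj ω) :=
    (RHom.hdMapIso (Scheme.Modules.restrictFunctor j) K i).symm ≪≫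
      (DerivedCategory.homologyFunctor _ i).mapIso e₀ ≪≫ DPerf.hdTildeIso ω i
  exact ModuleCat.subsingleton_of_isZero
    (DPerf.isZero_of_tilde (((Scheme.Modules.restrictFunctor j).map_isZero h).of_iso a.symm))

theorem lowest_sheaf [IsLocallyNoetherian X]
    [∀ (U : Scheme.{u}) (j : U ⟶ X) [IsOpenImmersion j], PreservesFiniteLimits (Scheme.Modules.restrictFunctor j)]
    [∀ (R : CommRingCat.{u}), PreservesFiniteLimits (tilde.functor R)] {K : DCoh.D X}
    (hK : Dual2.IsDualizingSch X K) (n : ℤ) (hlt : ∀ i : ℤ, i < n → IsZero (DCoh.HD K i)) (x : X) :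
    LocCoh.HasSk 2 (X.presheaf.stalk x) ((DCoh.HD K n).presheaf.stalk x) ∧
      (IsDomain (X.presheaf.stalk x) → Module.IsTorsionFree (X.presheaf.stalk x) ((DCoh.HD K n).presheaf.stalk x)) := by
  obtain ⟨_, ⟨U, hU, rfl⟩, hxU, -⟩ :=
    (X.isBasis_affineOpens).exists_subset_of_mem_open (Set.mem_univ x) isOpen_univ
  obtain ⟨p, rfl⟩ : x ∈ Set.range hU.fromSpec := by rw [hU.range_fromSpec]; exact hxU
  haveI : IsNoetherianRing Γ(X, U) := IsLocallyNoetherian.component_noetherian ⟨U, hU⟩
  let p' : PrimeSpectrum Γ(X, U) := p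
  obtain ⟨ω, hω, hM⟩ := mdl_of_isDualizingSch hK Γ(X, U) hU.fromSpec
  obtain ⟨σ, e, he⟩ := exists_stalkEquiv_aux K hU.fromSpec ω hM p n
  haveI := hω.finite_cohomology n
  haveI : Module.Finite (Localization.AtPrime p'.asIdeal)
      (LocalizedModule p'.asIdeal.primeCompl (Dual.HD Γ(X, U) ω n)) :=
    Module.Finite.of_isLocalizedModule p'.asIdeal.primeCompl
      (LocalizedModule.mkLinearMap p'.asIdeal.primeCompl (Dual.HD Γ(X, U) ω n))
  obtain ⟨h2, htf⟩ := localized_lowest hω p' n fun i hi => subsingleton_HD_of_isZero hM i (hlt i hi)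
  refine ⟨hasSk_of_semilinear σ e he 2 h2, fun hdom => ⟨fun a ha v w hvw => ?_⟩⟩
  haveI : IsDomain (Localization.AtPrime p'.asIdeal) := σ.symm.toMulEquiv.isDomain
  refine sub_eq_zero.1 (e.injective ((htf inferInstance (σ a) (fun h0 => ha.ne_zero ?_) (e (v - w)) ?_).trans
    (map_zero e).symm))
  · exact σ.injective (h0.trans (map_zero σ).symm)
  · rw [← he, show a • (v - w) = 0 by rw [smul_sub]; exact sub_eq_zero.2 hvw, map_zero]

end Groth.Agent.DlzSch27
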