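import Groth.Agent.Lib.DlzSch27.Pullback
import Groth.Agent.Lib.GorFib27.DescentGlobal
import Mathlib.AlgebraicGeometry.Limits
import Mathlib.RingTheory.Spectrum.Prime.RingHom

/-!
# Descent of dualizing complexes along surjective Gorenstein morphisms
-/

set_option autoImplicit false
set_option linter.style.haveILetI false
set_option backward.isDefEq.respectTransparency false
set_option backward.isDefEq.respectTransparency.types false

universe u

open CategoryTheory CategoryTheory.Limits AlgebraicGeometry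

attribute [local instance] HasDerivedCategory.standard

noncomputable section

namespace Groth.Agent.DlzSch27

variable {X Y : Scheme.{u}}

/-- Models of `tilde M` on affine opens. -/
theorem mdl_tilde {R S : CommRingCat.{u}} (M : Dual.D R) (φ : R ⟶ S) [DRing.HasLBaseChange φ.hom]
    [IsOpenImmersion (Spec.map φ)] :
    Mdl ((DPerf.tildeDD R).obj M) (Spec.map φ) ((DRing.LBaseChange φ.hom).obj M) := by
  haveI := KFlat.Sch.hasLpull (Spec.map φ)
  obtain ⟨b⟩ := DPerf.nonempty_lpull_iso_resD (Spec.map φ) ((DPerf.tildeDD R).obj M)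
  exact ⟨b.symm ≪≫ ((KFlat.Sch.lpullTildeIso φ).app M).symm⟩

/-- Two successive base changes against a single one, read through `tilde`. -/
theorem nonempty_LBaseChange_comp {A B C : CommRingCat.{u}} (ψ : A ⟶ B) (π : B ⟶ C) (φ : A ⟶ C) (h : ψ ≫ π = φ)
    [DRing.HasLBaseChange ψ.hom] [DRing.HasLBaseChange π.hom] [DRing.HasLBaseChange φ.hom] (M : Dual.D A) :
    Nonempty ((DRing.LBaseChange π.hom).obj ((DRing.LBaseChange ψ.hom).obj M) ≅
      (DRing.LBaseChange φ.hom).obj M) := by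
  haveI := KFlat.Sch.hasLpull (Spec.map ψ)
  haveI := KFlat.Sch.hasLpull (Spec.map π)
  haveI := KFlat.Sch.hasLpull (Spec.map π ≫ Spec.map ψ)
  haveI := KFlat.Sch.hasLpull (Spec.map φ)
  have e₃ : Nonempty ((DCoh.Lpull (Spec.map π ≫ Spec.map ψ)).obj ((DPerf.tildeDD A).obj M) ≅
      (DCoh.Lpull (Spec.map φ)).obj ((DPerf.tildeDD A).obj M)) := by
    revert ‹DCoh.HasLpull (Spec.map π ≫ Spec.map ψ)› ‹DCoh.HasLpull (Spec.map φ)›
    rw [← Spec.map_comp, h]
    intro _ _
    exact ⟨Iso.refl _⟩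
  exact nonempty_iso_of_tilde ((KFlat.Sch.lpullTildeIso π).app _ ≪≫
    (DCoh.Lpull (Spec.map π)).mapIso ((KFlat.Sch.lpullTildeIso ψ).app M) ≪≫
      (KFlat.Sch.lpullCompIso (Spec.map π) (Spec.map ψ)).app _ ≪≫ e₃.some ≪≫
        ((KFlat.Sch.lpullTildeIso φ).app M).symm)

theorem flat_pi {A : Type u} [CommRing A] {ι : Type} [Fintype ι] (B : ι → Type u) [∀ a, AddCommGroup (B a)]
    [∀ a, Module A (B a)] [∀ a, Module.Flat A (B a)] : Module.Flat A (∀ a, B a) := by
  classical
  exact Module.Flat.of_linearEquiv (DirectSum.linearEquivFunOnFintype A ι B).symm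

theorem isDualizingSch_of_lpull [IsLocallyNoetherian X] [IsLocallyNoetherian Y]
    [∀ (U V : Scheme.{u}) (j : U ⟶ V) [IsOpenImmersion j], PreservesFiniteLimits (Scheme.Modules.restrictFunctor j)]
    [∀ (R : CommRingCat.{u}), PreservesFiniteLimits (tilde.functor R)]
    (f : X ⟶ Y) [Surjective f] [LocallyOfFiniteType f] (hf : Dual3.IsGorensteinMor f)
    [DCoh.HasLpull f] {K : DCoh.D Y} (hK : DCoh.IsQCohD K)
    (hX : Dual2.IsDualizingSch X ((DCoh.Lpull f).obj K)) : Dual2.IsDualizingSch Y K := by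
  refine isDualizingSch_of_cover fun y => ?_
  obtain ⟨_, ⟨U, hU, rfl⟩, hyU, -⟩ :=
    (Y.isBasis_affineOpens).exists_subset_of_mem_open (Set.mem_univ y) isOpen_univ
  let i := hU.fromSpec
  let A := Γ(Y, U)
  haveI := isNoetherianRing_of_chart i
  obtain ⟨M, ⟨eM⟩⟩ := DQC.exists_iso_of_isQCohD ((DPerf.resD i).obj K) (DQC.isQCohD_resD i hK)
  have hM : Mdl K i M := ⟨eM.symm⟩
  refine ⟨A, i, inferInstance, by rw [hU.range_fromSpec]; exact hyU, M, ?_, hM⟩
  -- finitely many charts over `U`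
  have hc : ∀ x : (f ⁻¹ᵁ U : X.Opens), ∃ W : X.affineOpens, (x : X) ∈ W.1 ∧ W.1 ≤ f ⁻¹ᵁ U := fun x => by
    obtain ⟨W, hW, hxW, hWU⟩ := TopologicalSpace.Opens.isBasis_iff_nbhd.1 X.isBasis_affineOpens x.2
    exact ⟨⟨W, hW⟩, hxW, hWU⟩
  choose W hxW hWU using hc
  haveI := flat_of_isGorensteinMor hf
  haveI : LocallyOfFinitePresentation f := LocallyOfFinitePresentation.iff_locallyOfFiniteType.2 inferInstance
  haveI : UniversallyOpen f := UniversallyOpen.of_flat f
  obtain ⟨s, hs⟩ := hU.isCompact.elim_finite_subcover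
    (fun x => f '' ((W x).1 : Set X)) (fun x => f.isOpenMap _ (W x).1.isOpen)
    (fun y' hy' => by
      obtain ⟨x, rfl⟩ := f.surjective y'
      exact Set.mem_iUnion.2 ⟨⟨x, hy'⟩, x, hxW ⟨x, hy'⟩, rfl⟩)
  let ι := Fin s.toList.length
  let V : ι → X.affineOpens := fun a => W s.toList[a]
  have hV : ∀ y' ∈ U, ∃ a, ∃ x ∈ (V a).1, f x = y' := fun y' hy' => by
    obtain ⟨z, hz⟩ := Set.mem_iUnion.1 (hs hy')
    obtain ⟨hzs, x, hxz, rfl⟩ := Set.mem_iUnion.1 hz
    obtain ⟨n, hn, rfl⟩ := List.mem_iff_getElem.1 (Finset.mem_toList.2 hzs)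
    exact ⟨⟨n, hn⟩, x, hxz, rfl⟩
  let φ : ∀ a, A ⟶ Γ(X, (V a).1) := fun a => f.appLE U (V a).1 (hWU _)
  have w : ∀ a, Spec.map (φ a) ≫ i = (V a).2.fromSpec ≫ f := fun a => hU.SpecMap_appLE_fromSpec f (V a).2 (hWU _)
  have hφ : ∀ a, (φ a).hom.Flat ∧ (φ a).hom.FiniteType := fun a => by
    haveI : Flat (Spec.map (φ a) ≫ i) := by rw [w a]; infer_instance
    haveI : Flat (Spec.map (φ a)) :=
      MorphismProperty.of_postcomp (W' := @IsOpenImmersion) @Flat (Spec.map (φ a)) i inferInstance ‹_›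
    haveI : LocallyOfFiniteType (Spec.map (φ a) ≫ i) := by rw [w a]; infer_instance
    haveI : LocallyOfFiniteType (Spec.map (φ a)) := locallyOfFiniteType_of_comp (Spec.map (φ a)) i
    exact ⟨(HasRingHomProperty.Spec_iff (P := @Flat)).1 ‹_›,
      (HasRingHomProperty.Spec_iff (P := @LocallyOfFiniteType)).1 ‹_›⟩
  let Ba : ι → Type u := fun a => Γ(X, (V a).1)
  letI : ∀ a, Algebra A (Ba a) := fun a => (φ a).hom.toAlgebra
  haveI : ∀ a, Module.Flat A (Ba a) := fun a => (hφ a).1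
  haveI : ∀ a, IsNoetherianRing (Ba a) := fun a => IsLocallyNoetherian.component_noetherian (V a)
  let B : Type u := ∀ a, Ba a
  haveI : Module.Flat A B := flat_pi Ba
  haveI : IsNoetherianRing B := inferInstanceAs (IsNoetherianRing (∀ a, Ba a))
  haveI : Module.FaithfullyFlat A B := by
    refine Module.FaithfullyFlat.of_comap_surjective fun p => ?_
    have hpU : i p ∈ U := by
      have : i p ∈ Set.range i := ⟨p, rfl⟩
      rw [hU.range_fromSpec] at this
      exact this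
    obtain ⟨a, x, ha, hx⟩ := hV (i p) hpU
    obtain ⟨q, hq⟩ : x ∈ Set.range (V a).2.fromSpec := by rw [(V a).2.range_fromSpec]; exact ha
    refine ⟨PrimeSpectrum.comap (Pi.evalRingHom Ba a) q, ?_⟩
    have h1 : i (Spec.map (φ a) q) = i p := by
      rw [← hx, ← hq]
      exact congrArg (fun g : Spec Γ(X, (V a).1) ⟶ Y => g q) (w a)
    exact (i.isOpenEmbedding.injective h1 :)
  let ψ : A ⟶ CommRingCat.of B := CommRingCat.ofHom (algebraMap A B)
  haveI := DQC.hasLBaseChange ψ.hom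
  haveI : DRing.HasLBaseChange (algebraMap A B) := DQC.hasLBaseChange _
  refine GorFib27.isDualizing_of_LBaseChange (B := B) M ?_
  -- the product is dualizing, componentwise
  let N := (DRing.LBaseChange ψ.hom).obj M
  haveI : IsNoetherianRing (CommRingCat.of B) := ‹IsNoetherianRing B›
  have hcov : ∀ z : Spec (CommRingCat.of B), ∃ (R : CommRingCat.{u}) (j : Spec R ⟶ Spec (CommRingCat.of B))
      (_ : IsOpenImmersion j), z ∈ Set.range j ∧
        ∃ M', Dual.IsDualizing R M' ∧ Mdl ((DPerf.tildeDD (CommRingCat.of B)).obj N) j M' := by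
    intro z
    obtain ⟨a, q, hq⟩ := PrimeSpectrum.exists_comap_evalRingHom_eq (R := Ba) z
    let π : CommRingCat.of B ⟶ CommRingCat.of (Ba a) := CommRingCat.ofHom (Pi.evalRingHom Ba a)
    haveI : IsOpenImmersion (Spec.map π) := inferInstance
    haveI := DQC.hasLBaseChange π.hom
    haveI := DQC.hasLBaseChange (φ a).hom
    refine ⟨CommRingCat.of (Ba a), Spec.map π, inferInstance, ⟨q, hq⟩, _, ?_, mdl_tilde N π⟩
    obtain ⟨e⟩ := nonempty_LBaseChange_comp ψ π (φ a) (by ext r; rfl) M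
    refine Dlz27.isDualizing_of_iso e.symm ?_
    obtain ⟨M', hM', hM''⟩ := mdl_of_isDualizingSch hX Γ(X, (V a).1) (V a).2.fromSpec
    obtain ⟨e'⟩ := (mdl_lpull (φ a) i (V a).2.fromSpec (w a) hM).unique hM''
    exact Dlz27.isDualizing_of_iso e'.symm hM'
  obtain ⟨N', hN', hN''⟩ := exists_model_of_cover hcov (Spec.map (𝟙 (CommRingCat.of B)))
  haveI := DQC.hasLBaseChange (𝟙 (CommRingCat.of B) : CommRingCat.of B ⟶ _).hom
  obtain ⟨e⟩ := (mdl_tilde N (𝟙 (CommRingCat.of B))).unique hN''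
  haveI : DRing.HasLBaseChange (algebraMap B B) := DQC.hasLBaseChange _
  exact GorFib27.isDualizing_of_LBaseChange (A := B) (B := B) N (Dlz27.isDualizing_of_iso e.symm hN')

end Groth.Agent.DlzSch27
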