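import Groth.Agent.Lib.DlzSch27.Descent
import Groth.Agent.Lib.Goren15.FieldExt
import Groth.Agent.S1830

/-!
# Flat local complete intersection morphisms are Gorenstein
-/

set_option autoImplicit false
set_option linter.style.haveILetI false
set_option backward.isDefEq.respectTransparency false
set_option backward.isDefEq.respectTransparency.types false

universe u

open CategoryTheory CategoryTheory.Limits AlgebraicGeometry

noncomputable section

namespace Groth.Agent.DlzSch27

variable {X Y : Scheme.{u}}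

theorem locallyOfFiniteType_of_isLCIMor {f : X ⟶ Y} (hf : Dual3.IsLCIMor f) : LocallyOfFiniteType f := by
  choose U V e hU h using hf
  refine (IsZariskiLocalAtSource.iff_of_iSup_eq_top (P := @LocallyOfFiniteType)
    (fun x => (U x).1) (top_le_iff.1 fun x _ => TopologicalSpace.Opens.mem_iSup.2 ⟨x, hU x⟩)).2 fun x => ?_
  letI := (f.appLE (V x).1 (U x).1 (e x)).hom.toAlgebra
  have hh : (f.appLE (V x).1 (U x).1 (e x)).hom.FiniteType := (h x).1
  haveI : LocallyOfFiniteType (Spec.map (f.appLE (V x).1 (U x).1 (e x))) :=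
    (HasRingHomProperty.Spec_iff (P := @LocallyOfFiniteType)).2 hh
  haveI : LocallyOfFiniteType ((U x).2.fromSpec ≫ f) := by
    rw [← (V x).2.SpecMap_appLE_fromSpec f (U x).2 (e x)]; infer_instance
  rw [← (U x).2.isoSpec_hom_fromSpec, Category.assoc]
  infer_instance

theorem isGorensteinMor_of_isLCIMor {f : X ⟶ Y} [Flat f] [IsLocallyNoetherian Y] (hf : Dual3.IsLCIMor f) :
    Dual3.IsGorensteinMor f := by
  intro x
  obtain ⟨U, V, e, hxU, h⟩ := hf x
  obtain ⟨q, rfl⟩ : x ∈ Set.range U.2.fromSpec := by rw [U.2.range_fromSpec]; exact hxU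
  refine (Goren15.isGorensteinAt_iff f _).2 ⟨(Flat.iff_flat_stalkMap f).1 inferInstance _, ?_⟩
  let φ := f.appLE V.1 U.1 e
  have w : Spec.map φ ≫ V.2.fromSpec = U.2.fromSpec ≫ f := V.2.SpecMap_appLE_fromSpec f U.2 e
  refine (gorenstein_fibLoc_iff φ V.2.fromSpec U.2.fromSpec w q).2 ?_
  haveI : Flat (Spec.map φ ≫ V.2.fromSpec) := by rw [w]; infer_instance
  haveI : Flat (Spec.map φ) :=
    MorphismProperty.of_postcomp (W' := @IsOpenImmersion) @Flat (Spec.map φ) V.2.fromSpec inferInstance ‹_›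
  letI := φ.hom.toAlgebra
  haveI : Module.Flat Γ(Y, V.1) Γ(X, U.1) := (HasRingHomProperty.Spec_iff (P := @Flat)).1 ‹_›
  haveI : IsNoetherianRing Γ(Y, V.1) := IsLocallyNoetherian.component_noetherian V
  haveI : Algebra.FiniteType Γ(Y, V.1) Γ(X, U.1) := h.1
  haveI : IsNoetherianRing Γ(X, U.1) := Algebra.FiniteType.isNoetherianRing Γ(Y, V.1) Γ(X, U.1)
  refine GorFib27.gorenstein_fibLocRing_of_fibre (fun p => ?_) q
  haveI := S1830.result Γ(Y, V.1) Γ(X, U.1) h p
  exact Goren15.isGorensteinRing_of_ringEquiv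
    (Algebra.TensorProduct.comm Γ(Y, V.1) Γ(X, U.1) p.asIdeal.ResidueField).toRingEquiv

end Groth.Agent.DlzSch27
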