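import Groth.Agent.Lib.DlzSch27.LowestSheaf
import Groth.Agent.Lib.SMT.CMBasic

/-!
# A scheme with a dualizing module is Cohen–Macaulay
-/

set_option autoImplicit false
set_option linter.style.haveILetI false
set_option backward.isDefEq.respectTransparency false
set_option backward.isDefEq.respectTransparency.types false

universe u

open CategoryTheory CategoryTheory.Limits AlgebraicGeometry

attribute [local instance] HasDerivedCategory.standard

noncomputable section

namespace Groth.Agent.DlzSch27

open Dlz27

variable {X : Scheme.{u}}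

theorem isCM_of_dualizing_inD [IsLocallyNoetherian X]
    [∀ (U : Scheme.{u}) (j : U ⟶ X) [IsOpenImmersion j], PreservesFiniteLimits (Scheme.Modules.restrictFunctor j)]
    [∀ (R : CommRingCat.{u}), PreservesFiniteLimits (tilde.functor R)] (w : X.Modules)
    (hw : Dual2.IsDualizingSch X (DCoh.inD X w)) (x : X) :
    LocCoh.IsCohenMacaulayLocalRing (X.presheaf.stalk x) := by
  obtain ⟨_, ⟨U, hU, rfl⟩, hxU, -⟩ :=
    (X.isBasis_affineOpens).exists_subset_of_mem_open (Set.mem_univ x) isOpen_univ
  obtain ⟨p, rfl⟩ : x ∈ Set.range hU.fromSpec := by rw [hU.range_fromSpec]; exact hxU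
  haveI : IsNoetherianRing Γ(X, U) := IsLocallyNoetherian.component_noetherian ⟨U, hU⟩
  let p' : PrimeSpectrum Γ(X, U) := p
  obtain ⟨ω, hω, hM⟩ := mdl_of_isDualizingSch hw Γ(X, U) hU.fromSpec
  obtain ⟨g⟩ := DlzSchCM27.exists_stalk_ringEquiv (A := Γ(X, U)) hU.fromSpec p
  refine SMT.isCM_of_ringEquiv g.symm ((DlzSchCM27.isCM_iff_module p').2
    ((single_iff hω (model hω) p' Γ(X, U)).2 fun i j hi hj => ?_))
  have key : ∀ i, ¬ VanS (model hω).W p'.asIdeal.primeCompl Γ(X, U) i → i = 0 := fun i hi => by
    by_contra hne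
    have hz : IsZero (DCoh.HD (DCoh.inD X w) i) :=
      HomologicalComplex.isZero_single_obj_homology (ComplexShape.up ℤ) 0 w i hne |>.of_iso
        (((DerivedCategory.homologyFunctor X.Modules i).mapIso
          ((DerivedCategory.singleFunctorIsoCompQ X.Modules 0).app w)) ≪≫
            (DerivedCategory.homologyFunctorFactors X.Modules i).app _)
    haveI := subsingleton_HD_of_isZero hM i hz
    exact not_subsingleton_iff_nontrivial.2 ((DlzSchCM27.nontrivial_hd_iff (model hω) p' i).2 hi)
      (LocalizedModule.subsingleton_iff.2 fun m => ⟨1, one_mem _, Subsingleton.elim _ _⟩)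
  rw [key i hi, key j hj]

end Groth.Agent.DlzSch27
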