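import Groth.Agent.Lib.DlzSchCM27.Main
import Groth.Agent.Lib.DlzSch27.Cover
import Groth.Agent.Lib.RefHull26.Glue

/-!
# Stalks of cohomology sheaves as localized modules, with their scalars
-/

set_option autoImplicit false
set_option linter.style.haveILetI false
set_option backward.isDefEq.respectTransparency false
set_option backward.isDefEq.respectTransparency.types false

universe u

open CategoryTheory CategoryTheory.Limits AlgebraicGeometry TopologicalSpace Opposite

attribute [local instance] HasDerivedCategory.standard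

noncomputable section

namespace Groth.Agent.DlzSch27

/-- A semilinear identification of stalks along an open immersion. -/
theorem exists_restrict_stalkEquiv {X Z : Scheme.{u}} (j : Z ⟶ X) [IsOpenImmersion j] (F : X.Modules) (z : Z) :
    ∃ e : (F.restrict j).presheaf.stalk z ≃+ F.presheaf.stalk (j z),
      ∀ (a : Z.presheaf.stalk z) (v : (F.restrict j).presheaf.stalk z),
        e (a • v) = (inv (j.stalkMap z)).hom a • e v := by
  let e : (F.restrict j).presheaf.stalk z ≃+ F.presheaf.stalk (j z) :=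
    ((Scheme.Modules.restrictStalkNatIso j z).app F).addCommGroupIsoToAddEquiv
  refine ⟨e, fun a v => ?_⟩
  obtain ⟨W, hW, r, rfl⟩ := Z.presheaf.exists_germ_eq a
  obtain ⟨W', hW', m, rfl⟩ := (F.restrict j).presheaf.exists_germ_eq v
  have key : ∀ (V : Z.Opens) (hV : z ∈ V) (t : Γ(F.restrict j, V)),
      e ((F.restrict j).presheaf.germ V z hV t) =
        F.presheaf.germ (j ''ᵁ V) (j z) ⟨z, hV, rfl⟩ ((F.restrictAppIso j V).hom t) := fun V hV t =>
    ConcreteCategory.congr_hom (Scheme.Modules.germ_restrictStalkNatIso_hom_app j z F hV) t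
  have hstalk : ∀ (V : Z.Opens) (hV : z ∈ V) (t : Γ(Z, V)),
      (inv (j.stalkMap z)).hom (Z.presheaf.germ V z hV t) =
        X.presheaf.germ (j ''ᵁ V) (j z) ⟨z, hV, rfl⟩ ((j.appIso V).inv t) := fun V hV t => by
    have h : (j.appIso V).inv ≫ X.presheaf.germ (j ''ᵁ V) (j z) ⟨z, hV, rfl⟩ =
        Z.presheaf.germ V z hV ≫ inv (j.stalkMap z) := by
      rw [IsIso.eq_comp_inv, Category.assoc, Scheme.Hom.germ_stalkMap, Scheme.Hom.appIso_inv_app_assoc,
        Z.presheaf.germ_res]
    exact (ConcreteCategory.congr_hom h t).symm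
  rw [← TopCat.Presheaf.germ_res_apply Z.presheaf (homOfLE (inf_le_left : W ⊓ W' ≤ W)) z ⟨hW, hW'⟩ r,
    ← TopCat.Presheaf.germ_res_apply (F.restrict j).presheaf (homOfLE (inf_le_right : W ⊓ W' ≤ W')) z ⟨hW, hW'⟩ m,
    ← RH26.gsmul, key, key, hstalk, ← RH26.gsmul]
  congr 1

/-- The stalks of `tilde N`, with their scalars. -/
theorem exists_tilde_stalkEquiv {R : CommRingCat.{u}} (N : ModuleCat.{u} R) (p : Spec R) :
    ∃ (σ : (Spec R).presheaf.stalk p ≃+* Localization.AtPrime (p : PrimeSpectrum R).asIdeal)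
      (e : (tilde N).presheaf.stalk p ≃+ LocalizedModule (p : PrimeSpectrum R).asIdeal.primeCompl N),
      ∀ a v, e (a • v) = σ a • e v := by
  let p' : PrimeSpectrum R := p
  let S := ((Spec R).presheaf.stalk p' : Type u)
  let L := Localization.AtPrime p'.asIdeal
  letI : Algebra R S := (StructureSheaf.toStalk R p').hom.toAlgebra
  haveI : IsLocalization p'.asIdeal.primeCompl S := by
    exact (inferInstance : IsLocalization.AtPrime ((Spec.structureSheaf R).presheaf.stalk p') p'.asIdeal)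
  haveI : IsScalarTower R S ((tilde N).presheaf.stalk p') :=
    ⟨fun r a z => by rw [Algebra.smul_def, mul_smul]; rfl⟩
  haveI : IsLocalizedModule p'.asIdeal.primeCompl (tilde.toStalk N p').hom :=
    inferInstanceAs (IsLocalizedModule p'.asIdeal.primeCompl (StructureSheaf.toStalkₗ ..))
  let σ : S ≃+* L := (IsLocalization.algEquiv p'.asIdeal.primeCompl S L).toRingEquiv
  let M₁ := LocalizedModule p'.asIdeal.primeCompl N
  let l := (IsLocalizedModule.iso p'.asIdeal.primeCompl (tilde.toStalk N p').hom).symm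
  refine ⟨σ, l.toAddEquiv, fun a v => ?_⟩
  obtain ⟨⟨r, s⟩, hrs⟩ := IsLocalization.surj p'.asIdeal.primeCompl a
  have hu : IsUnit (algebraMap R L s) := IsLocalization.map_units L s
  refine hu.smul_left_cancel.1 ?_
  rw [algebraMap_smul, smul_smul]
  show (s : R) • l (a • v) = (algebraMap R L s * σ a) • l v
  rw [show algebraMap R L s * σ a = algebraMap R L r by
      rw [← (IsLocalization.algEquiv p'.asIdeal.primeCompl S L).commutes, mul_comm,
        ← (IsLocalization.algEquiv p'.asIdeal.primeCompl S L).commutes r, ← hrs]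
      exact (map_mul (IsLocalization.algEquiv p'.asIdeal.primeCompl S L) a _).symm,
    algebraMap_smul, ← map_smul, ← map_smul, ← algebraMap_smul S (s : R) (a • v), smul_smul, mul_comm, hrs,
    algebraMap_smul]

variable {X : Scheme.{u}}

/-- Morphisms of modules are linear on stalks. -/
theorem stalkMap_smul {L M : X.Modules} (φ : L ⟶ M) (z : X) (c : X.presheaf.stalk z) (a : (L.presheaf.stalk z : Type u)) :
    (M1.stalkAb z).map φ (c • a) = c • (show (M.presheaf.stalk z : Type u) from (M1.stalkAb z).map φ a) := by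
  obtain ⟨U, hU, s, rfl⟩ := L.presheaf.exists_germ_eq a
  obtain ⟨V, hV, r, rfl⟩ := X.presheaf.exists_germ_eq c
  rw [← TopCat.Presheaf.germ_res_apply L.presheaf (homOfLE (inf_le_left : U ⊓ V ≤ U)) z ⟨hU, hV⟩ s,
    ← TopCat.Presheaf.germ_res_apply X.presheaf (homOfLE (inf_le_right : U ⊓ V ≤ V)) z ⟨hU, hV⟩ r]
  have hz : z ∈ U ⊓ V := ⟨hU, hV⟩
  refine Eq.trans (congrArg ((M1.stalkAb z).map φ) (M1.germ_smul L hz _ _).symm) ?_
  refine (TopCat.Presheaf.stalkFunctor_map_germ_apply (U ⊓ V) z hz φ.mapPresheaf _).trans ?_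
  refine Eq.trans ?_ (congrArg (_ • ·) (TopCat.Presheaf.stalkFunctor_map_germ_apply (U ⊓ V) z hz φ.mapPresheaf _).symm)
  exact (congrArg _ (Scheme.Modules.Hom.app_smul φ _ _)).trans (M1.germ_smul M _ _ _)

theorem exists_stalkEquiv_aux {R : CommRingCat.{u}} (K : DCoh.D X) (j : Spec R ⟶ X) [IsOpenImmersion j]
    (ω : Dual.D R) (hM : Mdl K j ω) (p : Spec R) (i : ℤ) :
    ∃ (σ : X.presheaf.stalk (j p) ≃+* Localization.AtPrime (p : PrimeSpectrum R).asIdeal)
      (e : (DCoh.HD K i).presheaf.stalk (j p) ≃+ LocalizedModule (p : PrimeSpectrum R).asIdeal.primeCompl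
        ((DerivedCategory.homologyFunctor (ModuleCat.{u} R) i).obj ω)),
      ∀ a v, e (a • v) = σ a • e v := by
  obtain ⟨e₀⟩ := hM
  let a : (DCoh.HD K i).restrict j ≅
      (tilde.functor R).obj ((DerivedCategory.homologyFunctor (ModuleCat.{u} R) i).obj ω) :=
    (RHom.hdMapIso (Scheme.Modules.restrictFunctor j) K i).symm ≪≫
      (DerivedCategory.homologyFunctor _ i).mapIso e₀ ≪≫ DPerf.hdTildeIso ω i
  obtain ⟨e₁, h₁⟩ := exists_restrict_stalkEquiv j (DCoh.HD K i) p
  obtain ⟨σ, e₂, h₂⟩ := exists_tilde_stalkEquiv ((DerivedCategory.homologyFunctor (ModuleCat.{u} R) i).obj ω) p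
  let b : ((DCoh.HD K i).restrict j).presheaf.stalk p ≃+
      ((tilde.functor R).obj ((DerivedCategory.homologyFunctor (ModuleCat.{u} R) i).obj ω)).presheaf.stalk p :=
    ((M1.stalkAb p).mapIso a).addCommGroupIsoToAddEquiv
  refine ⟨(asIso (j.stalkMap p)).commRingCatIsoToRingEquiv.trans σ, (e₁.symm.trans b).trans e₂, fun c v => ?_⟩
  have h₁' : e₁.symm (c • v) = (j.stalkMap p).hom c • e₁.symm v := e₁.injective (by
    rw [e₁.apply_symm_apply, h₁, e₁.apply_symm_apply]
    exact congrArg (· • v) (CategoryTheory.Iso.hom_inv_id_apply (asIso (j.stalkMap p)) c).symm)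
  show e₂ (b (e₁.symm (c • v))) = σ ((j.stalkMap p).hom c) • e₂ (b (e₁.symm v))
  rw [h₁']
  refine (congrArg e₂ ?_).trans (h₂ _ _)
  exact stalkMap_smul a.hom p ((j.stalkMap p).hom c) (e₁.symm v)

end Groth.Agent.DlzSch27
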