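import Groth.Agent.Lib.DlzSch27.Cover
import Groth.Agent.Lib.DlzSchCM27.Main
import Groth.Agent.Lib.Goren15.Equiv
import Groth.Prelude.Def_Dual3

/-!
# The structure sheaf of a Gorenstein scheme with a dualizing complex is dualizing
-/

set_option autoImplicit false
set_option linter.style.haveILetI false
set_option backward.isDefEq.respectTransparency false
set_option backward.isDefEq.respectTransparency.types false

universe u

open CategoryTheory CategoryTheory.Limits AlgebraicGeometry

attribute [local instance] HasDerivedCategory.standard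

noncomputable section

namespace Groth.Agent.DlzSch27

open Dlz27

theorem isDualizing_self_of_gorenstein (A : Type u) [CommRing A] [IsNoetherianRing A]
    (hgor : ∀ p : PrimeSpectrum A, LocCoh.IsGorensteinLocalRing (Localization.AtPrime p.asIdeal))
    (hdim : ringKrullDim A < ⊤) : Dual.IsDualizing A (Dual.inD A A) := by
  obtain ⟨W₀, hW₀, hW₀i, hW₀K, ⟨e₀⟩⟩ := HTFin27.exists_res_bounded (Dual.inD A A) 0
    fun i hi => (DMod.isGE_iff (Dual.inD A A) 0).1 inferInstance i hi
  refine isDualizing_of_primes (Dual.inD A A) hdim (fun i => finite_HD_inD A A i) 0 W₀ hW₀i e₀ fun p => ?_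
  obtain ⟨e⟩ := exists_locCx_iso p.asIdeal.primeCompl W₀ A e₀
  haveI : IsNoetherianRing (Localization p.asIdeal.primeCompl) :=
    IsLocalization.isNoetherianRing p.asIdeal.primeCompl _ inferInstance
  have hd := (gorenstein_iff_isDualizing (Localization.AtPrime p.asIdeal)).1 (hgor p)
  haveI := isLocalizedModule_mkL p.asIdeal.primeCompl (ModuleCat.of A A)
  let l : Localization p.asIdeal.primeCompl ≃ₗ[Localization p.asIdeal.primeCompl]
      (ModuleCat.of A A).localizedModule p.asIdeal.primeCompl :=
    (IsLocalizedModule.linearEquiv p.asIdeal.primeCompl (Algebra.linearMap A (Localization p.asIdeal.primeCompl))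
      (mkL p.asIdeal.primeCompl (ModuleCat.of A A))).extendScalarsOfIsLocalization
        p.asIdeal.primeCompl (Localization p.asIdeal.primeCompl)
  exact isDualizing_of_iso ((DerivedCategory.singleFunctor _ 0).mapIso l.toModuleIso ≪≫ e.symm) hd

variable {X : Scheme.{u}}

theorem mdl_structureModule {R : CommRingCat.{u}} (j : Spec R ⟶ X) [IsOpenImmersion j] :
    Mdl (DCoh.inD X (Coh.structureModule X)) j (Dual.inD R R) := by
  let e : (Scheme.Modules.restrictFunctor j).obj (Coh.structureModule X) ≅
      (tilde.functor R).obj (ModuleCat.of R R) :=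
    Scheme.Modules.restrictUnitIso j ≪≫ (tildeSelf (R := R)).symm
  exact ⟨((Scheme.Modules.restrictFunctor j).mapDerivedCategorySingleFunctor 0).app _ ≪≫
    (DerivedCategory.singleFunctor (Spec R).Modules 0).mapIso e ≪≫
      (((tilde.functor R).mapDerivedCategorySingleFunctor 0).app (ModuleCat.of R R)).symm⟩

theorem isDualizingSch_structureModule (hX : Dual3.IsGorenstein X)
    [∀ (U V : Scheme.{u}) (j : U ⟶ V) [IsOpenImmersion j], PreservesFiniteLimits (Scheme.Modules.restrictFunctor j)]
    [∀ (R : CommRingCat.{u}), PreservesFiniteLimits (tilde.functor R)] {K : DCoh.D X}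
    (hK : Dual2.IsDualizingSch X K) : Dual2.IsDualizingSch X (DCoh.inD X (Coh.structureModule X)) := by
  haveI := hX.1
  refine isDualizingSch_of_cover fun x => ?_
  obtain ⟨_, ⟨U, hU, rfl⟩, hxU, -⟩ :=
    (X.isBasis_affineOpens).exists_subset_of_mem_open (Set.mem_univ x) isOpen_univ
  haveI : IsNoetherianRing Γ(X, U) := IsLocallyNoetherian.component_noetherian ⟨U, hU⟩
  refine ⟨Γ(X, U), hU.fromSpec, inferInstance, by rw [hU.range_fromSpec]; exact hxU, _, ?_,
    mdl_structureModule hU.fromSpec⟩
  obtain ⟨ω, hω, -⟩ := hK Γ(X, U) hU.fromSpec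
  refine isDualizing_self_of_gorenstein Γ(X, U) (fun p => ?_) (ringKrullDim_lt_top hω (model hω))
  obtain ⟨g⟩ := DlzSchCM27.exists_stalk_ringEquiv (A := Γ(X, U)) hU.fromSpec p
  exact (Goren15.isGorensteinLocalRing_iff_of_ringEquiv g).1 (hX.2 _)

end Groth.Agent.DlzSch27
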